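import Cfsg.Agent.H321.SpecEven.Defs_m3
import Cfsg.Agent.H402.LwU43_m3
import Cfsg.Agent.H414.SpecFrame_m3
import Cfsg.Agent.H395.Coclique
import Cfsg.Agent.H373.Recog
import Cfsg.Agent.H912.KnownSplit
import Cfsg.Agent.OrdDiv.Table
import Cfsg.Agent.S0000
import Cfsg.Agent.S3585
import Cfsg.Agent.S3586
import Cfsg.Agent.Prune
set_option linter.all false

section
prune_inst 0x7f00000000000000000000000000000000000000000000000000000000000000000000000000000000000000000000000000000000000000000000000000000000000000000000000000000000000000003fffffffffffffffffffffffffffbeffbdffffffff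

-- part: H321/SpecEven/Frame
section
set_option linter.all false
open scoped Cfsg.Agent.FastGrp

/-!
# The frame for S3458 and S3463 (helper321)

`ω(G) = ω(L)`, `L = PSL_n(q)` or `PSU_n(q)`, `q = 2 ^ k`, `n = 2 ^ t + 1`: `G` is not solvable, the solvable radical `K`,
the simple socle `S` of `G / K`; `Cand e t k S`.
-/

set_option autoImplicit false
set_option linter.unusedSectionVars false

namespace Cfsg.Agent.H321.SpecEven

open Subgroup Cfsg.Agent.H414.Adj Cfsg.Agent.H414.Vasiliev Cfsg.Agent.H414.Comp Cfsg.Agent.H414.Spec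
  Cfsg.Agent.H403 Cfsg.Agent.H403.NumTop

section Gen

variable {G : Type*} [Group G] [Finite G]

/-- elements of the socle -/
theorem exists_socle_elt (K : Subgroup G) [K.Normal] (S : Subgroup (G ⧸ K)) [S.Normal] {x : G}
    (h1 : Nat.Coprime (orderOf x) (Nat.card ↥K)) (h2 : Nat.Coprime (orderOf x) S.index) :
    ∃ s : ↥S, orderOf s = orderOf x := by
  have h3 : orderOf (x : G ⧸ K) = orderOf x := by
    apply Nat.dvd_antisymm (orderOf_map_dvd (QuotientGroup.mk' K) x)
    apply orderOf_dvd_of_pow_eq_one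
    set m := orderOf (x : G ⧸ K) with hm
    have h4 : x ^ m ∈ K := by
      rw [← QuotientGroup.eq_one_iff, QuotientGroup.mk_pow, pow_orderOf_eq_one]
    have h5 : orderOf (x ^ m) ∣ Nat.card ↥K := Subgroup.orderOf_dvd_natCard K h4
    have h6 : orderOf (x ^ m) ∣ orderOf x := orderOf_pow_dvd m
    have h7 : orderOf (x ^ m) ∣ 1 := by rw [← h1]; exact Nat.dvd_gcd h6 h5
    exact orderOf_eq_one_iff.1 (Nat.dvd_one.1 h7)
  have h4 : (x : G ⧸ K) ∈ S := by
    rw [← QuotientGroup.eq_one_iff (N := S)]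
    have h5 : orderOf (((x : G ⧸ K) : (G ⧸ K) ⧸ S)) ∣ orderOf x := by
      rw [← h3]
      exact orderOf_map_dvd (QuotientGroup.mk' S) _
    have h6 : orderOf (((x : G ⧸ K) : (G ⧸ K) ⧸ S)) ∣ S.index := by
      rw [Subgroup.index_eq_card]
      exact orderOf_dvd_natCard _
    have h7 : orderOf (((x : G ⧸ K) : (G ⧸ K) ⧸ S)) ∣ 1 := by rw [← h2]; exact Nat.dvd_gcd h5 h6
    exact orderOf_eq_one_iff.1 (Nat.dvd_one.1 h7)
  exact ⟨⟨_, h4⟩, by rw [← h3, ← Subgroup.orderOf_coe]⟩

/-- orders in a quotient -/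
theorem exists_lift (K : Subgroup G) [K.Normal] (x : G ⧸ K) : ∃ g : G, orderOf g = orderOf x := by
  obtain ⟨g, rfl⟩ := QuotientGroup.mk_surjective x
  obtain ⟨c, hc⟩ := orderOf_map_dvd (QuotientGroup.mk' K) g
  have hc0 : c ≠ 0 := by
    rintro rfl
    rw [mul_zero] at hc
    exact (orderOf_pos g).ne' hc
  refine ⟨g ^ c, ?_⟩
  rw [orderOf_pow_of_dvd hc0 (hc ▸ dvd_mul_left _ _), hc, Nat.mul_div_cancel _ (Nat.pos_of_ne_zero hc0)]
  rfl

end Gen

section Facts

variable {F : Type*} [Field F] [Fintype F] {e : Bool} {t k : ℕ} {L : Type*} [Group L] [Finite L]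

/-- two primes of different indices `> n / 2` are not adjacent -/
theorem not_adj_big (hL : IsL L e (2 ^ t + 1) (2 ^ k) F) (hF : Fintype.card F = (2 ^ k) ^ (cond e 0 1 + 1)) (ht : 2 ≤ t)
    {r s : ℕ} (hr : r.Prime) (hs : s.Prime) (h1 : 2 ≤ od e (2 ^ k) r) (h2 : 2 ≤ od e (2 ^ k) s)
    (h3 : 2 ^ t + 1 < od e (2 ^ k) r + od e (2 ^ k) s) (h4 : ¬ od e (2 ^ k) r ∣ od e (2 ^ k) s)
    (h5 : ¬ od e (2 ^ k) s ∣ od e (2 ^ k) r) : ¬ ∃ g : L, orderOf g = r * s := by
  have h2t : 2 ^ 2 ≤ 2 ^ t := Nat.pow_le_pow_right (by norm_num) ht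
  refine (hL.lin (E := AlgebraicClosure F) hF (by omega)).not_adj hF (by omega) hr hs rfl rfl h1 h2 h3 ?_
  set k' := od e (2 ^ k) r
  set l := od e (2 ^ k) s
  change 2 ^ t + 1 < Nat.lcm k' l
  obtain ⟨a, ha⟩ := Nat.dvd_lcm_left k' l
  obtain ⟨b, hb⟩ := Nat.dvd_lcm_right k' l
  have hpos : 0 < Nat.lcm k' l := Nat.lcm_pos (by omega) (by omega)
  have ha2 : 2 ≤ a := by
    by_contra hlt
    rcases (by omega : a = 0 ∨ a = 1) with rfl | rfl
    · rw [mul_zero] at ha; omega
    · rw [mul_one] at ha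
      apply h5
      rw [← ha]
      exact Nat.dvd_lcm_right k' l
  have hb2 : 2 ≤ b := by
    by_contra hlt
    rcases (by omega : b = 0 ∨ b = 1) with rfl | rfl
    · rw [mul_zero] at hb; omega
    · rw [mul_one] at hb
      apply h4
      rw [← hb]
      exact Nat.dvd_lcm_left k' l
  have e1 : k' * 2 ≤ k' * a := Nat.mul_le_mul_left k' ha2
  have e2 : l * 2 ≤ l * b := Nat.mul_le_mul_left l hb2
  omega

theorem coprime_AA_one {c i : ℕ} (hi : 2 ≤ i) (h : ∀ r : ℕ, r.Prime → r ∣ c → od e (2 ^ k) r = i) :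
    Nat.Coprime c (AA e 1 (2 ^ k)) := by
  apply Nat.coprime_of_dvd
  intro r hr h1 h2
  have h3 := h r hr h1
  rw [dvd_AA_one_iff (Nat.one_le_two_pow)] at h2
  have h4 : od e (2 ^ k) r = 1 := by
    show orderOf ((xv e (2 ^ k) : ℤ) : ZMod r) = 1
    rw [h2, orderOf_one]
  omega

/-- elements of `L` whose order is a product of primes of index `i` -/
theorem exists_elt (hL : IsL L e (2 ^ t + 1) (2 ^ k) F) (hF : Fintype.card F = (2 ^ k) ^ (cond e 0 1 + 1)) (ht : 2 ≤ t)
    {c i : ℕ} (hi : 2 ≤ i) (hin : i ≤ 2 ^ t + 1) (h : ∀ r : ℕ, r.Prime → r ∣ c → od e (2 ^ k) r = i)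
    (hc : c ∣ AA e i (2 ^ k)) : ∃ g : L, orderOf g = c := by
  have h2t : 2 ^ 2 ≤ 2 ^ t := Nat.pow_le_pow_right (by norm_num) ht
  have hq : 2 ≤ 2 ^ k := two_le_of_card hF
  have hc0 : 0 < c := Nat.pos_of_ne_zero fun h0 => by
    rw [h0, zero_dvd_iff] at hc
    have := AA_pos (e := e) hq (i := i) (by omega)
    omega
  exact hL.exists_tor_le hF (by omega) (by omega) hin hc0 (coprime_AA_one hi h) hc

theorem dvd_AA_od {r : ℕ} : r ∣ AA e (od e (2 ^ k) r) (2 ^ k) := by
  rw [dvd_AA_iff Nat.one_le_two_pow]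
  exact pow_orderOf_eq_one _

theorem exists_prime_elt (hL : IsL L e (2 ^ t + 1) (2 ^ k) F) (hF : Fintype.card F = (2 ^ k) ^ (cond e 0 1 + 1)) (ht : 2 ≤ t)
    {r : ℕ} (hr : r.Prime) (hi : 2 ≤ od e (2 ^ k) r) (hin : od e (2 ^ k) r ≤ 2 ^ t + 1) : ∃ g : L, orderOf g = r :=
  exists_elt hL hF ht hi hin (fun s hs hsr => by rw [(Nat.prime_dvd_prime_iff_eq hs hr).1 hsr]) dvd_AA_od

/-- primes of index `n`, `n - 1` -/
theorem exists_top (hk : 1 ≤ k) (ht : 2 ≤ t) : ∃ r : ℕ, r.Prime ∧ od e (2 ^ k) r = 2 ^ t + 1 := by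
  have h2t : 2 ^ 2 ≤ 2 ^ t := Nat.pow_le_pow_right (by norm_num) ht
  have h2k : 2 ^ 1 ≤ 2 ^ k := Nat.pow_le_pow_right (by norm_num) hk
  suffices h : ¬ Exc e (2 ^ t + 1) (2 ^ k) by
    obtain ⟨r, h1, -, h3⟩ := exists_prime (e := e) (q := 2 ^ k) (i := 2 ^ t + 1) (by omega) (by omega) h
    exact ⟨r, h1, h3⟩
  rintro (⟨-, h, -⟩ | ⟨-, h, -⟩)
  · have : 2 ^ t = 2 * 2 ^ (t - 1) := by rw [← pow_succ']; congr 1; omega
    omega
  · omega

theorem exists_pred (hk : 1 ≤ k) (ht : 2 ≤ t) : ∃ r : ℕ, r.Prime ∧ od e (2 ^ k) r = 2 ^ t := by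
  have h2t : 2 ^ 2 ≤ 2 ^ t := Nat.pow_le_pow_right (by norm_num) ht
  have h2k : 2 ^ 1 ≤ 2 ^ k := Nat.pow_le_pow_right (by norm_num) hk
  suffices h : ¬ Exc e (2 ^ t) (2 ^ k) by
    obtain ⟨r, h1, -, h3⟩ := exists_prime (e := e) (q := 2 ^ k) (i := 2 ^ t) (by omega) (by omega) h
    exact ⟨r, h1, h3⟩
  rintro (⟨-, h, -⟩ | ⟨-, h, -⟩)
  · have : 2 ^ t = 2 ^ 2 * 2 ^ (t - 2) := by rw [← pow_add]; congr 1; omega
    omega
  · omega

theorem ne_two_of_od {r i : ℕ} (hk : 1 ≤ k) (h : od e (2 ^ k) r = i) (hi : 1 ≤ i) : r ≠ 2 := by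
  rintro rfl
  exact not_dvd_q Nat.prime_two h hi (dvd_pow_self 2 (by omega))

/-- the coclique `{2, r_n, r_(n-1)}` -/
theorem coc_two (hL : IsL L e (2 ^ t + 1) (2 ^ k) F) (hF : Fintype.card F = (2 ^ k) ^ (cond e 0 1 + 1)) (ht : 2 ≤ t)
    (hk : 1 ≤ k) {r s : ℕ} (hr : r.Prime) (hs : s.Prime) (h1 : od e (2 ^ k) r = 2 ^ t + 1) (h2 : od e (2 ^ k) s = 2 ^ t) :
    Coc L {2, r, s} ∧ Coc L {2, s, r} := by
  have h2t : 2 ^ 2 ≤ 2 ^ t := Nat.pow_le_pow_right (by norm_num) ht
  have hlin := hL.lin (E := AlgebraicClosure F) hF (by omega)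
  have hq2 : Even (2 ^ k) := (Nat.even_pow).2 ⟨even_two, by omega⟩
  have hr2 := ne_two_of_od hk h1 (by omega)
  have hs2 := ne_two_of_od hk h2 (by omega)
  have a1 : ¬ ∃ g : L, orderOf g = r * 2 := hlin.two_even hF hq2 (by omega) hr rfl (Or.inl h1)
  have a2 : ¬ ∃ g : L, orderOf g = s * 2 := hlin.two_even hF hq2 (by omega) hs rfl (Or.inr (h2.trans (by omega)))
  have a3 : ¬ ∃ g : L, orderOf g = r * s := by
    refine not_adj_big hL hF ht hr hs (by omega) (by omega) (by omega) ?_ ?_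
    · rw [h1, h2]
      intro h
      have := Nat.le_of_dvd (by omega) h
      omega
    · rw [h1, h2]
      intro h
      have h3 := (Nat.dvd_add_right (dvd_refl (2 ^ t))).1 h
      have := Nat.dvd_one.1 h3
      omega
  have b1 : ¬ ∃ g : L, orderOf g = 2 * r := by rwa [mul_comm]
  have b2 : ¬ ∃ g : L, orderOf g = 2 * s := by rwa [mul_comm]
  have b3 : ¬ ∃ g : L, orderOf g = s * r := by rwa [mul_comm]
  have c0 : (2 : ℕ).Prime ∧ 2 ∣ Nat.card L := by
    refine ⟨Nat.prime_two, ?_⟩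
    obtain ⟨g, hg⟩ := Cfsg.Agent.H402.Uni.exists_pow hL hF (by omega) Nat.prime_two rfl hk (a := 1) le_rfl (by simp)
    rw [pow_one] at hg
    rw [← hg]
    exact orderOf_dvd_natCard g
  have c1 : r.Prime ∧ r ∣ Nat.card L := by
    refine ⟨hr, ?_⟩
    obtain ⟨g, hg⟩ := exists_prime_elt hL hF ht hr (by omega) (by omega)
    rw [← hg]
    exact orderOf_dvd_natCard g
  have c2 : s.Prime ∧ s ∣ Nat.card L := by
    refine ⟨hs, ?_⟩
    obtain ⟨g, hg⟩ := exists_prime_elt hL hF ht hs (by omega) (by omega)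
    rw [← hg]
    exact orderOf_dvd_natCard g
  constructor
  · constructor
    · intro x hx
      simp only [Finset.mem_insert, Finset.mem_singleton] at hx
      rcases hx with rfl | rfl | rfl <;> assumption
    · intro x hx y hy hxy
      simp only [Finset.mem_insert, Finset.mem_singleton] at hx hy
      rcases hx with rfl | rfl | rfl <;> rcases hy with rfl | rfl | rfl <;>
        first | exact absurd rfl hxy | assumption
  · constructor
    · intro x hx
      simp only [Finset.mem_insert, Finset.mem_singleton] at hx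
      rcases hx with rfl | rfl | rfl <;> assumption
    · intro x hx y hy hxy
      simp only [Finset.mem_insert, Finset.mem_singleton] at hx hy
      rcases hx with rfl | rfl | rfl <;> rcases hy with rfl | rfl | rfl <;>
        first | exact absurd rfl hxy | assumption

/-- the hypothesis on `G` -/
structure Iso (e : Bool) (t k : ℕ) (F : Type*) [Field F] [Fintype F] (L : Type*) [Group L] (G : Type*) [Group G] : Prop where
  hL : IsL L e (2 ^ t + 1) (2 ^ k) F
  hF : Fintype.card F = (2 ^ k) ^ (cond e 0 1 + 1)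
  ht : 2 ≤ t
  hk : 1 ≤ k
  he : e = false → 3 ≤ t
  spec : Set.range (orderOf : G → ℕ) = Set.range (orderOf : L → ℕ)

variable {G : Type*} [Group G] [Finite G]

/-- `G` is not solvable -/
theorem Iso.not_solvable (h : Iso e t k F L G) : ¬ Group.IsSolvable G := by
  classical
  intro hG
  obtain ⟨r, hr, hr1⟩ := exists_top (e := e) (k := k) h.hk h.ht
  obtain ⟨s, hs, hs1⟩ := exists_pred (e := e) (k := k) h.hk h.ht
  have hρ := coc_of_spec h.spec (coc_two h.hL h.hF h.ht h.hk hr hs hr1 hs1).1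
  have hr2 := ne_two_of_od h.hk hr1 (by omega)
  have h2t : 2 ^ 2 ≤ 2 ^ t := Nat.pow_le_pow_right (by norm_num) h.ht
  have hs2 := ne_two_of_od h.hk hs1 (by omega)
  have hrs : r ≠ s := by
    rintro rfl
    omega
  have : Group.IsSolvable ↥(⊤ : Subgroup G) := Group.isSolvable_of_isSolvable_injective (Subgroup.subtype_injective _)
  refine Cfsg.Agent.H395.Coclique.coclique Nat.prime_two hr hs hr2.symm hs2.symm hrs
    (hρ.2 2 (by simp) r (by simp) hr2.symm) (hρ.2 2 (by simp) s (by simp) hs2.symm) (hρ.2 r (by simp) s (by simp) hrs)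
    ⊤ this ?_ ?_ (hρ.1 s (by simp)).2
  · rw [Subgroup.card_top]; exact (hρ.1 2 (by simp)).2
  · rw [Subgroup.card_top]; exact (hρ.1 r (by simp)).2

/-- **The frame.** -/
theorem Iso.frame (h : Iso e t k F L G) (K : Subgroup G) [K.Normal] (hK : Group.IsSolvable ↥K)
    (hKmax : ∀ M : Subgroup G, M.Normal → Group.IsSolvable ↥M → M ≤ K) :
    ∃ S : Subgroup (G ⧸ K), IsComp S ∧ S.Normal ∧ centralizer (S : Set (G ⧸ K)) = ⊥ ∧ Cand e t k ↥S ∧
      (∀ p : ℕ, p.Prime → (od e (2 ^ k) p = 2 ^ t + 1 ∨ od e (2 ^ k) p = 2 ^ t) → ¬ p ∣ Nat.card ↥K ∧ ¬ p ∣ S.index) := by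
  classical
  obtain ⟨r, hr, hr1⟩ := exists_top (e := e) (k := k) h.hk h.ht
  obtain ⟨s, hs, hs1⟩ := exists_pred (e := e) (k := k) h.hk h.ht
  have h2t : 2 ^ 2 ≤ 2 ^ t := Nat.pow_le_pow_right (by norm_num) h.ht
  have hr2 := ne_two_of_od h.hk hr1 (by omega)
  have hs2 := ne_two_of_od h.hk hs1 (by omega)
  have hcoc : ∀ r s : ℕ, r.Prime → s.Prime → od e (2 ^ k) r = 2 ^ t + 1 → od e (2 ^ k) s = 2 ^ t →
      Coc G {2, r, s} ∧ Coc G {2, s, r} := by
    intro r s hr hs hr1 hs1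
    obtain ⟨h1, h2⟩ := coc_two h.hL h.hF h.ht h.hk hr hs hr1 hs1
    exact ⟨coc_of_spec h.spec h1, coc_of_spec h.spec h2⟩
  have hρ := (hcoc r s hr hs hr1 hs1).1
  obtain ⟨S, hS, hSn, hSc, hScoc, -⟩ := Cfsg.Agent.H414.Vasiliev.main h.not_solvable
    ⟨r, hr, hr2, (hρ.1 r (by simp)).2, hρ.2 2 (by simp) r (by simp) hr2.symm⟩ K hK hKmax
  have hbig : ∀ p : ℕ, p.Prime → (od e (2 ^ k) p = 2 ^ t + 1 ∨ od e (2 ^ k) p = 2 ^ t) →
      ¬ p ∣ Nat.card ↥K ∧ ¬ p ∣ S.index := by
    rintro p hp (hp1 | hp1)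
    · refine not_dvd K hK S hS hSc (ne_two_of_od h.hk hp1 (by omega)) hs2 ?_ (hcoc p s hp hs hp1 hs1).1
      rintro rfl
      omega
    · refine not_dvd K hK S hS hSc (ne_two_of_od h.hk hp1 (by omega)) hr2 ?_ (hcoc r p hr hp hr1 hp1).2
      rintro rfl
      omega
  refine ⟨S, hS, hSn, hSc, ?_, hbig⟩
  have hlin := h.hL.lin (E := AlgebraicClosure F) h.hF (by omega)
  have hq2 : Even (2 ^ k) := (Nat.even_pow).2 ⟨even_two, by have := h.hk; omega⟩
  -- orders
  have hS_L : ∀ x : ↥S, ∃ g : L, orderOf g = orderOf x := by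
    intro x
    obtain ⟨g, hg⟩ := exists_lift K (x : G ⧸ K)
    exact (exists_iff h.spec _).1 ⟨g, by rw [hg, Subgroup.orderOf_coe]⟩
  have hdvd_card : ∀ p : ℕ, p.Prime → p ∣ Nat.card ↥S → ∃ g : L, orderOf g = p := by
    intro p hp hpS
    have := Fact.mk hp
    obtain ⟨x, hx⟩ := exists_prime_orderOf_dvd_card' p hpS
    obtain ⟨g, hg⟩ := hS_L x
    exact ⟨g, by rw [hg, hx]⟩
  have hex : ∀ i : ℕ, (i = 2 ^ t + 1 ∨ i = 2 ^ t) → ∀ c : ℕ, (∀ r : ℕ, r.Prime → r ∣ c → od e (2 ^ k) r = i) →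
      c ∣ AA e i (2 ^ k) → ∃ g : ↥S, orderOf g = c := by
    intro i hi c h1 h2
    obtain ⟨g, hg⟩ := exists_elt h.hL h.hF h.ht (by omega) (by omega) h1 h2
    obtain ⟨x, hx⟩ := (exists_iff h.spec _).2 ⟨g, hg⟩
    have h3 : ∀ p : ℕ, p.Prime → p ∣ c → ¬ p ∣ Nat.card ↥K ∧ ¬ p ∣ S.index := by
      intro p hp hpc
      refine hbig p hp ?_
      rcases hi with hi | hi
      · left; rw [h1 p hp hpc, hi]
      · right; rw [h1 p hp hpc, hi]
    obtain ⟨y, hy⟩ := exists_socle_elt K S (x := x)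
      (by rw [hx]; exact Nat.coprime_of_dvd fun p hp h4 h5 => (h3 p hp h4).1 h5)
      (by rw [hx]; exact Nat.coprime_of_dvd fun p hp h4 h5 => (h3 p hp h4).2 h5)
    exact ⟨y, by rw [hy, hx]⟩
  refine
    { ht := h.ht
      hk := h.hk
      he := h.he
      prime_ok := fun p hp hp2 hpS => ?_
      two := fun g hg => ?_
      two_mul := fun a p hp h1 ha hg => ?_
      adj := fun p q hp hq h1 h2 h3 h4 h5 hg => ?_
      top := fun g p hp h1 h2 => ?_
      pred := fun g p hp h1 h2 => ?_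
      ex_top := hex _ (Or.inl rfl)
      ex_pred := hex _ (Or.inr rfl)
      coc := fun ρ h1 h2 h3 p hp q hq hpq => ?_ }
  · refine hlin.ord_le h.hF (by omega) hp (fun hd => hp2 ?_) (hdvd_card p hp hpS)
    exact (Nat.prime_dvd_prime_iff_eq hp Nat.prime_two).1 (hp.dvd_of_dvd_pow hd)
  · obtain ⟨c, hc⟩ := hg
    have hc0 : c ≠ 0 := by
      rintro rfl
      rw [mul_zero] at hc
      exact (orderOf_pos g).ne' hc
    by_cases hc1 : c = 1
    · rw [hc, hc1, mul_one]
    · exfalso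
      obtain ⟨p, hp, d, rfl⟩ := Nat.exists_prime_and_dvd hc1
      have hd0 : d ≠ 0 := by rintro rfl; exact hc0 (mul_zero _)
      have h1 : orderOf (g ^ d) = 2 ^ (t + 1) * p := by
        rw [orderOf_pow_of_dvd hd0 (by rw [hc, ← mul_assoc]; exact dvd_mul_left _ _), hc, ← mul_assoc,
          Nat.mul_div_cancel _ (Nat.pos_of_ne_zero hd0)]
      obtain ⟨x, hx⟩ := hS_L (g ^ d)
      rw [h1] at hx
      rcases Nat.Prime.eq_two_or_odd' hp with rfl | hpo
      · have h2 := Cfsg.Agent.H402.Uni.pow_lt hlin h.hF (by omega) Nat.prime_two rfl h.hk (a := t + 2) (by omega)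
          ⟨x, by rw [hx]; ring⟩
        rw [show t + 2 - 1 = t + 1 by omega, pow_succ] at h2
        omega
      · exact two_top hlin h.hF hq2 (by omega) le_rfl hpo hp.one_lt.ne' ⟨x, hx⟩
  · obtain ⟨g, hg⟩ := hg
    obtain ⟨x, hx⟩ := hS_L g
    have h3 := orderOf_dvd_natCard g
    have hp2 : p ≠ 2 := by
      rintro rfl
      have h4 : od e (2 ^ k) 2 = 0 ∨ 1 ≤ od e (2 ^ k) 2 := by omega
      rcases h4 with h4 | h4
      · omega
      · exact ne_two_of_od h.hk rfl h4 rfl
    have h5 := hlin.ord_le h.hF (by omega) hp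
      (fun hd => hp2 ((Nat.prime_dvd_prime_iff_eq hp Nat.prime_two).1 (hp.dvd_of_dvd_pow hd)))
      (hdvd_card p hp ((hg ▸ Dvd.intro_left _ rfl : p ∣ orderOf g).trans h3))
    exact two_mul_lt hlin h.hF hq2 (by omega) hp rfl h1 h5.2 ha ⟨x, by rw [hx, hg]⟩
  · obtain ⟨g, hg⟩ := hg
    obtain ⟨x, hx⟩ := hS_L g
    exact not_adj_big h.hL h.hF h.ht hp hq h1 h2 h3 h4 h5 ⟨x, by rw [hx, hg]⟩
  · obtain ⟨x, hx⟩ := hS_L g
    rw [← hx] at h2 ⊢
    exact top_dvd hlin h.hF (by omega) hp h1 (orderOf_pos x) h2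
  · obtain ⟨x, hx⟩ := hS_L g
    rw [← hx] at h2 ⊢
    exact pred_dvd hlin h.hF (by omega) hp (h1.trans (by omega)) (orderOf_pos x) h2
  · have hρ : Coc G ρ := by
      apply coc_of_spec h.spec
      constructor
      · intro x hx
        obtain ⟨a1, a2, a3⟩ := h1 x hx
        refine ⟨a1, ?_⟩
        obtain ⟨g, hg⟩ := exists_prime_elt h.hL h.hF h.ht a1 (by omega) a3
        rw [← hg]
        exact orderOf_dvd_natCard g
      · intro x hx y hy hxy
        obtain ⟨a1, a2, a3⟩ := h1 x hx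
        obtain ⟨b1, b2, b3⟩ := h1 y hy
        have hne : od e (2 ^ k) x ≠ od e (2 ^ k) y := fun h => hxy (h2 x hx y hy h)
        have aux : ∀ {i j : ℕ}, i ≠ j → 2 ^ t + 1 < 2 * i → 2 ^ t + 1 < 2 * j → i ≤ 2 ^ t + 1 → j ≤ 2 ^ t + 1 → ¬ i ∣ j := by
          rintro i j hij c1 c2 c3 c4 ⟨m, hm⟩
          rcases (by omega : m = 0 ∨ m = 1 ∨ 2 ≤ m) with rfl | rfl | hm2
          · omega
          · omega
          · have : i * 2 ≤ i * m := Nat.mul_le_mul_left i hm2
            omega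
        exact not_adj_big h.hL h.hF h.ht a1 b1 (by omega) (by omega) (by omega) (aux hne a2 b2 a3 b3)
          (aux hne.symm b2 a2 b3 a3)
    have key : ∀ x ∈ ρ, ¬ x ∣ Nat.card ↥K * S.index → x ∣ Nat.card ↥S := by
      intro x hx hxn
      obtain ⟨a1, a2⟩ := hρ.1 x hx
      have h4 : Nat.card G = Nat.card ↥S * (Nat.card ↥K * S.index) := by
        rw [Subgroup.card_eq_card_quotient_mul_card_subgroup K, ← Subgroup.card_mul_index S]
        ring
      rw [h4] at a2
      exact (a1.dvd_mul.1 a2).resolve_right hxn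
    by_cases h5 : p ∣ Nat.card ↥K * S.index
    · right
      apply key q hq
      intro h6
      exact hpq (hScoc ρ hρ h3 p hp q hq h5 h6)
    · exact Or.inl (key p hp h5)

end Facts

end Cfsg.Agent.H321.SpecEven
end

-- part: H321/SpecEven/FrameW
section
set_option linter.all false
open scoped Cfsg.Agent.FastGrp

/-!
# The frame for `PSL_n(2^k)`, `PSU_n(2^k)`, `n = 2 ^ t + 1 ≥ 5` (helper321): the version without `he`

`CandW`, `IsoW`, `IsoW.frame`: as `Cand`, `Iso`, `Iso.frame`, without the hypothesis `e = false → 3 ≤ t`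
(so `PSU_5(2^k)`, S3462, is included).
-/

set_option autoImplicit false
set_option linter.unusedSectionVars false

namespace Cfsg.Agent.H321.SpecEven

open Subgroup Cfsg.Agent.H414.Adj Cfsg.Agent.H414.Vasiliev Cfsg.Agent.H414.Comp Cfsg.Agent.H414.Spec
  Cfsg.Agent.H403 Cfsg.Agent.H403.NumTop
/-- What is known on a nonabelian composition factor `S` of a group isospectral to `PSL_n(q)` (`e = true`) or
`PSU_n(q)` (`e = false`), `q = 2 ^ k`, `n = 2 ^ t + 1`. -/
structure CandW (e : Bool) (t k : ℕ) (S : Type*) [Group S] : Prop where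
  ht : 2 ≤ t
  hk : 1 ≤ k
  /-- the primes -/
  prime_ok : ∀ r : ℕ, r.Prime → r ≠ 2 → r ∣ Nat.card S → 1 ≤ od e (2 ^ k) r ∧ od e (2 ^ k) r ≤ 2 ^ t + 1
  /-- no elements of order `2 ^ (t + 2)` and `2 ^ (t + 1) * r`, `r` odd -/
  two : ∀ g : S, 2 ^ (t + 1) ∣ orderOf g → orderOf g = 2 ^ (t + 1)
  /-- elements of order `2 ^ a * r`, `r` a prime of index `i > n / 2`: `2 ^ (a - 1) < n - i` (or `a = 0`) -/
  two_mul : ∀ (a r : ℕ), r.Prime → 2 ^ t + 1 < 2 * od e (2 ^ k) r → 1 ≤ a → (∃ g : S, orderOf g = 2 ^ a * r) →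
    2 ^ (a - 1) + od e (2 ^ k) r < 2 ^ t + 1
  /-- primes `r`, `s` of indices `i`, `j` with `i + j > n`, not dividing each other, are not adjacent -/
  adj : ∀ r s : ℕ, r.Prime → s.Prime → 2 ≤ od e (2 ^ k) r → 2 ≤ od e (2 ^ k) s → 2 ^ t + 1 < od e (2 ^ k) r + od e (2 ^ k) s →
    ¬ od e (2 ^ k) r ∣ od e (2 ^ k) s → ¬ od e (2 ^ k) s ∣ od e (2 ^ k) r → ¬ ∃ g : S, orderOf g = r * s
  /-- elements of order divisible by a prime of index `n` -/
  top : ∀ (g : S) (r : ℕ), r.Prime → od e (2 ^ k) r = 2 ^ t + 1 → r ∣ orderOf g →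
    orderOf g * dd e (2 ^ t + 1) (2 ^ k) * AA e 1 (2 ^ k) ∣ AA e (2 ^ t + 1) (2 ^ k)
  /-- elements of order divisible by a prime of index `n - 1` -/
  pred : ∀ (g : S) (r : ℕ), r.Prime → od e (2 ^ k) r = 2 ^ t → r ∣ orderOf g →
    orderOf g * dd e (2 ^ t + 1) (2 ^ k) ∣ AA e (2 ^ t) (2 ^ k)
  /-- existence of elements; all primes of index `n` and `n - 1` divide `|S|` with their full power -/
  ex_top : ∀ c : ℕ, (∀ r : ℕ, r.Prime → r ∣ c → od e (2 ^ k) r = 2 ^ t + 1) → c ∣ AA e (2 ^ t + 1) (2 ^ k) →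
    ∃ g : S, orderOf g = c
  ex_pred : ∀ c : ℕ, (∀ r : ℕ, r.Prime → r ∣ c → od e (2 ^ k) r = 2 ^ t) → c ∣ AA e (2 ^ t) (2 ^ k) →
    ∃ g : S, orderOf g = c
  /-- of two primes of a coclique (with at least three primes) of `L` one divides `|S|` -/
  coc : ∀ ρ : Finset ℕ, (∀ r ∈ ρ, r.Prime ∧ 2 ^ t + 1 < 2 * od e (2 ^ k) r ∧ od e (2 ^ k) r ≤ 2 ^ t + 1) →
    (∀ r ∈ ρ, ∀ s ∈ ρ, od e (2 ^ k) r = od e (2 ^ k) s → r = s) → 3 ≤ ρ.card →
    ∀ r ∈ ρ, ∀ s ∈ ρ, r ≠ s → r ∣ Nat.card S ∨ s ∣ Nat.card S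

namespace CandW

variable {e : Bool} {t k : ℕ} {S : Type*} [Group S]

/-- Transport along an isomorphism. -/
theorem of_mulEquiv {T : Type*} [Group T] (f : S ≃* T) (h : CandW e t k S) : CandW e t k T where
  ht := h.ht
  hk := h.hk
  prime_ok r hr h2 hd := h.prime_ok r hr h2 (by rwa [Nat.card_congr f.toEquiv])
  two g hg := by
    have := h.two (f.symm g)
    rw [MulEquiv.orderOf_eq] at this
    exact this hg
  two_mul a r hr h1 h2 h3 := h.two_mul a r hr h1 h2 (by
    obtain ⟨g, hg⟩ := h3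
    exact ⟨f.symm g, by rw [MulEquiv.orderOf_eq, hg]⟩)
  adj r s hr hs h1 h2 h3 h4 h5 h6 := h.adj r s hr hs h1 h2 h3 h4 h5 (by
    obtain ⟨g, hg⟩ := h6
    exact ⟨f.symm g, by rw [MulEquiv.orderOf_eq, hg]⟩)
  top g r hr h1 h2 := by
    have := h.top (f.symm g) r hr h1
    rw [MulEquiv.orderOf_eq] at this
    exact this h2
  pred g r hr h1 h2 := by
    have := h.pred (f.symm g) r hr h1
    rw [MulEquiv.orderOf_eq] at this
    exact this h2
  ex_top c h1 h2 := by
    obtain ⟨g, hg⟩ := h.ex_top c h1 h2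
    exact ⟨f g, by rw [MulEquiv.orderOf_eq, hg]⟩
  ex_pred c h1 h2 := by
    obtain ⟨g, hg⟩ := h.ex_pred c h1 h2
    exact ⟨f g, by rw [MulEquiv.orderOf_eq, hg]⟩
  coc ρ h1 h2 h3 r hr s hs hrs := by
    have := h.coc ρ h1 h2 h3 r hr s hs hrs
    rwa [Nat.card_congr f.toEquiv] at this

end CandW


theorem CandW.toCand {e : Bool} {t k : ℕ} {S : Type*} [Group S] (h : CandW e t k S) (he : e = false → 3 ≤ t) :
    Cand e t k S where
  ht := h.ht
  hk := h.hk
  he := he
  prime_ok := h.prime_ok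
  two := h.two
  two_mul := h.two_mul
  adj := h.adj
  top := h.top
  pred := h.pred
  ex_top := h.ex_top
  ex_pred := h.ex_pred
  coc := h.coc

section Facts

variable {F : Type*} [Field F] [Fintype F] {e : Bool} {t k : ℕ} {L : Type*} [Group L] [Finite L]

/-- the hypothesis on `G` -/
structure IsoW (e : Bool) (t k : ℕ) (F : Type*) [Field F] [Fintype F] (L : Type*) [Group L] (G : Type*) [Group G] : Prop where
  hL : IsL L e (2 ^ t + 1) (2 ^ k) F
  hF : Fintype.card F = (2 ^ k) ^ (cond e 0 1 + 1)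
  ht : 2 ≤ t
  hk : 1 ≤ k
  spec : Set.range (orderOf : G → ℕ) = Set.range (orderOf : L → ℕ)

variable {G : Type*} [Group G] [Finite G]

/-- `G` is not solvable -/
theorem IsoW.not_solvable (h : IsoW e t k F L G) : ¬ Group.IsSolvable G := by
  classical
  intro hG
  obtain ⟨r, hr, hr1⟩ := exists_top (e := e) (k := k) h.hk h.ht
  obtain ⟨s, hs, hs1⟩ := exists_pred (e := e) (k := k) h.hk h.ht
  have hρ := coc_of_spec h.spec (coc_two h.hL h.hF h.ht h.hk hr hs hr1 hs1).1
  have hr2 := ne_two_of_od h.hk hr1 (by omega)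
  have h2t : 2 ^ 2 ≤ 2 ^ t := Nat.pow_le_pow_right (by norm_num) h.ht
  have hs2 := ne_two_of_od h.hk hs1 (by omega)
  have hrs : r ≠ s := by
    rintro rfl
    omega
  have : Group.IsSolvable ↥(⊤ : Subgroup G) := Group.isSolvable_of_isSolvable_injective (Subgroup.subtype_injective _)
  refine Cfsg.Agent.H395.Coclique.coclique Nat.prime_two hr hs hr2.symm hs2.symm hrs
    (hρ.2 2 (by simp) r (by simp) hr2.symm) (hρ.2 2 (by simp) s (by simp) hs2.symm) (hρ.2 r (by simp) s (by simp) hrs)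
    ⊤ this ?_ ?_ (hρ.1 s (by simp)).2
  · rw [Subgroup.card_top]; exact (hρ.1 2 (by simp)).2
  · rw [Subgroup.card_top]; exact (hρ.1 r (by simp)).2

/-- **The frame.** -/
theorem IsoW.frame (h : IsoW e t k F L G) (K : Subgroup G) [K.Normal] (hK : Group.IsSolvable ↥K)
    (hKmax : ∀ M : Subgroup G, M.Normal → Group.IsSolvable ↥M → M ≤ K) :
    ∃ S : Subgroup (G ⧸ K), IsComp S ∧ S.Normal ∧ centralizer (S : Set (G ⧸ K)) = ⊥ ∧ CandW e t k ↥S ∧
      (∀ p : ℕ, p.Prime → (od e (2 ^ k) p = 2 ^ t + 1 ∨ od e (2 ^ k) p = 2 ^ t) → ¬ p ∣ Nat.card ↥K ∧ ¬ p ∣ S.index) := by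
  classical
  obtain ⟨r, hr, hr1⟩ := exists_top (e := e) (k := k) h.hk h.ht
  obtain ⟨s, hs, hs1⟩ := exists_pred (e := e) (k := k) h.hk h.ht
  have h2t : 2 ^ 2 ≤ 2 ^ t := Nat.pow_le_pow_right (by norm_num) h.ht
  have hr2 := ne_two_of_od h.hk hr1 (by omega)
  have hs2 := ne_two_of_od h.hk hs1 (by omega)
  have hcoc : ∀ r s : ℕ, r.Prime → s.Prime → od e (2 ^ k) r = 2 ^ t + 1 → od e (2 ^ k) s = 2 ^ t →
      Coc G {2, r, s} ∧ Coc G {2, s, r} := by
    intro r s hr hs hr1 hs1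
    obtain ⟨h1, h2⟩ := coc_two h.hL h.hF h.ht h.hk hr hs hr1 hs1
    exact ⟨coc_of_spec h.spec h1, coc_of_spec h.spec h2⟩
  have hρ := (hcoc r s hr hs hr1 hs1).1
  obtain ⟨S, hS, hSn, hSc, hScoc, -⟩ := Cfsg.Agent.H414.Vasiliev.main h.not_solvable
    ⟨r, hr, hr2, (hρ.1 r (by simp)).2, hρ.2 2 (by simp) r (by simp) hr2.symm⟩ K hK hKmax
  have hbig : ∀ p : ℕ, p.Prime → (od e (2 ^ k) p = 2 ^ t + 1 ∨ od e (2 ^ k) p = 2 ^ t) →
      ¬ p ∣ Nat.card ↥K ∧ ¬ p ∣ S.index := by
    rintro p hp (hp1 | hp1)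
    · refine not_dvd K hK S hS hSc (ne_two_of_od h.hk hp1 (by omega)) hs2 ?_ (hcoc p s hp hs hp1 hs1).1
      rintro rfl
      omega
    · refine not_dvd K hK S hS hSc (ne_two_of_od h.hk hp1 (by omega)) hr2 ?_ (hcoc r p hr hp hr1 hp1).2
      rintro rfl
      omega
  refine ⟨S, hS, hSn, hSc, ?_, hbig⟩
  have hlin := h.hL.lin (E := AlgebraicClosure F) h.hF (by omega)
  have hq2 : Even (2 ^ k) := (Nat.even_pow).2 ⟨even_two, by have := h.hk; omega⟩
  -- orders
  have hS_L : ∀ x : ↥S, ∃ g : L, orderOf g = orderOf x := by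
    intro x
    obtain ⟨g, hg⟩ := exists_lift K (x : G ⧸ K)
    exact (exists_iff h.spec _).1 ⟨g, by rw [hg, Subgroup.orderOf_coe]⟩
  have hdvd_card : ∀ p : ℕ, p.Prime → p ∣ Nat.card ↥S → ∃ g : L, orderOf g = p := by
    intro p hp hpS
    have := Fact.mk hp
    obtain ⟨x, hx⟩ := exists_prime_orderOf_dvd_card' p hpS
    obtain ⟨g, hg⟩ := hS_L x
    exact ⟨g, by rw [hg, hx]⟩
  have hex : ∀ i : ℕ, (i = 2 ^ t + 1 ∨ i = 2 ^ t) → ∀ c : ℕ, (∀ r : ℕ, r.Prime → r ∣ c → od e (2 ^ k) r = i) →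
      c ∣ AA e i (2 ^ k) → ∃ g : ↥S, orderOf g = c := by
    intro i hi c h1 h2
    obtain ⟨g, hg⟩ := exists_elt h.hL h.hF h.ht (by omega) (by omega) h1 h2
    obtain ⟨x, hx⟩ := (exists_iff h.spec _).2 ⟨g, hg⟩
    have h3 : ∀ p : ℕ, p.Prime → p ∣ c → ¬ p ∣ Nat.card ↥K ∧ ¬ p ∣ S.index := by
      intro p hp hpc
      refine hbig p hp ?_
      rcases hi with hi | hi
      · left; rw [h1 p hp hpc, hi]
      · right; rw [h1 p hp hpc, hi]
    obtain ⟨y, hy⟩ := exists_socle_elt K S (x := x)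
      (by rw [hx]; exact Nat.coprime_of_dvd fun p hp h4 h5 => (h3 p hp h4).1 h5)
      (by rw [hx]; exact Nat.coprime_of_dvd fun p hp h4 h5 => (h3 p hp h4).2 h5)
    exact ⟨y, by rw [hy, hx]⟩
  refine
    { ht := h.ht
      hk := h.hk
      prime_ok := fun p hp hp2 hpS => ?_
      two := fun g hg => ?_
      two_mul := fun a p hp h1 ha hg => ?_
      adj := fun p q hp hq h1 h2 h3 h4 h5 hg => ?_
      top := fun g p hp h1 h2 => ?_
      pred := fun g p hp h1 h2 => ?_
      ex_top := hex _ (Or.inl rfl)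
      ex_pred := hex _ (Or.inr rfl)
      coc := fun ρ h1 h2 h3 p hp q hq hpq => ?_ }
  · refine hlin.ord_le h.hF (by omega) hp (fun hd => hp2 ?_) (hdvd_card p hp hpS)
    exact (Nat.prime_dvd_prime_iff_eq hp Nat.prime_two).1 (hp.dvd_of_dvd_pow hd)
  · obtain ⟨c, hc⟩ := hg
    have hc0 : c ≠ 0 := by
      rintro rfl
      rw [mul_zero] at hc
      exact (orderOf_pos g).ne' hc
    by_cases hc1 : c = 1
    · rw [hc, hc1, mul_one]
    · exfalso
      obtain ⟨p, hp, d, rfl⟩ := Nat.exists_prime_and_dvd hc1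
      have hd0 : d ≠ 0 := by rintro rfl; exact hc0 (mul_zero _)
      have h1 : orderOf (g ^ d) = 2 ^ (t + 1) * p := by
        rw [orderOf_pow_of_dvd hd0 (by rw [hc, ← mul_assoc]; exact dvd_mul_left _ _), hc, ← mul_assoc,
          Nat.mul_div_cancel _ (Nat.pos_of_ne_zero hd0)]
      obtain ⟨x, hx⟩ := hS_L (g ^ d)
      rw [h1] at hx
      rcases Nat.Prime.eq_two_or_odd' hp with rfl | hpo
      · have h2 := Cfsg.Agent.H402.Uni.pow_lt hlin h.hF (by omega) Nat.prime_two rfl h.hk (a := t + 2) (by omega)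
          ⟨x, by rw [hx]; ring⟩
        rw [show t + 2 - 1 = t + 1 by omega, pow_succ] at h2
        omega
      · exact two_top hlin h.hF hq2 (by omega) le_rfl hpo hp.one_lt.ne' ⟨x, hx⟩
  · obtain ⟨g, hg⟩ := hg
    obtain ⟨x, hx⟩ := hS_L g
    have h3 := orderOf_dvd_natCard g
    have hp2 : p ≠ 2 := by
      rintro rfl
      have h4 : od e (2 ^ k) 2 = 0 ∨ 1 ≤ od e (2 ^ k) 2 := by omega
      rcases h4 with h4 | h4
      · omega
      · exact ne_two_of_od h.hk rfl h4 rfl
    have h5 := hlin.ord_le h.hF (by omega) hp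
      (fun hd => hp2 ((Nat.prime_dvd_prime_iff_eq hp Nat.prime_two).1 (hp.dvd_of_dvd_pow hd)))
      (hdvd_card p hp ((hg ▸ Dvd.intro_left _ rfl : p ∣ orderOf g).trans h3))
    exact two_mul_lt hlin h.hF hq2 (by omega) hp rfl h1 h5.2 ha ⟨x, by rw [hx, hg]⟩
  · obtain ⟨g, hg⟩ := hg
    obtain ⟨x, hx⟩ := hS_L g
    exact not_adj_big h.hL h.hF h.ht hp hq h1 h2 h3 h4 h5 ⟨x, by rw [hx, hg]⟩
  · obtain ⟨x, hx⟩ := hS_L g
    rw [← hx] at h2 ⊢
    exact top_dvd hlin h.hF (by omega) hp h1 (orderOf_pos x) h2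
  · obtain ⟨x, hx⟩ := hS_L g
    rw [← hx] at h2 ⊢
    exact pred_dvd hlin h.hF (by omega) hp (h1.trans (by omega)) (orderOf_pos x) h2
  · have hρ : Coc G ρ := by
      apply coc_of_spec h.spec
      constructor
      · intro x hx
        obtain ⟨a1, a2, a3⟩ := h1 x hx
        refine ⟨a1, ?_⟩
        obtain ⟨g, hg⟩ := exists_prime_elt h.hL h.hF h.ht a1 (by omega) a3
        rw [← hg]
        exact orderOf_dvd_natCard g
      · intro x hx y hy hxy
        obtain ⟨a1, a2, a3⟩ := h1 x hx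
        obtain ⟨b1, b2, b3⟩ := h1 y hy
        have hne : od e (2 ^ k) x ≠ od e (2 ^ k) y := fun h => hxy (h2 x hx y hy h)
        have aux : ∀ {i j : ℕ}, i ≠ j → 2 ^ t + 1 < 2 * i → 2 ^ t + 1 < 2 * j → i ≤ 2 ^ t + 1 → j ≤ 2 ^ t + 1 → ¬ i ∣ j := by
          rintro i j hij c1 c2 c3 c4 ⟨m, hm⟩
          rcases (by omega : m = 0 ∨ m = 1 ∨ 2 ≤ m) with rfl | rfl | hm2
          · omega
          · omega
          · have : i * 2 ≤ i * m := Nat.mul_le_mul_left i hm2
            omega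
        exact not_adj_big h.hL h.hF h.ht a1 b1 (by omega) (by omega) (by omega) (aux hne a2 b2 a3 b3)
          (aux hne.symm b2 a2 b3 a3)
    have key : ∀ x ∈ ρ, ¬ x ∣ Nat.card ↥K * S.index → x ∣ Nat.card ↥S := by
      intro x hx hxn
      obtain ⟨a1, a2⟩ := hρ.1 x hx
      have h4 : Nat.card G = Nat.card ↥S * (Nat.card ↥K * S.index) := by
        rw [Subgroup.card_eq_card_quotient_mul_card_subgroup K, ← Subgroup.card_mul_index S]
        ring
      rw [h4] at a2
      exact (a1.dvd_mul.1 a2).resolve_right hxn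
    by_cases h5 : p ∣ Nat.card ↥K * S.index
    · right
      apply key q hq
      intro h6
      exact hpq (hScoc ρ hρ h3 p hp q hq h5 h6)
    · exact Or.inl (key p hp h5)

end Facts

end Cfsg.Agent.H321.SpecEven
end

-- part: H321/SpecEven/Ident
section
set_option linter.all false
open scoped Cfsg.Agent.FastGrp

-- part: H321/SpecEven/Finish
section
/-!
# The assembly for `PSL_n(2^k)`, `PSU_n(2^k)`, `n = 2 ^ t + 1 ≥ 5` (helper321): light part

`IsoW.finish` : identification of the socle, covers, automorphisms give `G ≃* L`.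
-/

set_option autoImplicit false
set_option linter.unusedSectionVars false

namespace Cfsg.Agent.H321.SpecEven

open Subgroup Cfsg.Agent.H414.Comp Cfsg.Agent.H373.Recog

universe u v

variable {F : Type*} [Field F] [Fintype F] {e : Bool} {t k : ℕ} {L : Type v} [Group L] [Finite L]
  {G : Type u} [Group G] [Finite G]

/-- **Identification, covers, automorphisms.** -/
theorem IsoW.finish (h : IsoW e t k F L G)
    (hid : ∀ (H : Subgroup G), H.IsSubnormal → ∀ (N : Subgroup ↥H) [N.Normal], IsSimpleGroup (↥H ⧸ N) →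
      ¬ IsMulCommutative (↥H ⧸ N) → CandW e t k (↥H ⧸ N) → Nonempty ((↥H ⧸ N) ≃* L))
    (hcov : Cov.{v, u} L) (haut : AutOk L) : Nonempty (G ≃* L) := by
  obtain ⟨K, hKn, hKs, hKmax⟩ := Cfsg.Agent.H414.Spec.exists_radical G
  obtain ⟨S, hS, hSn, hSc, hc, -⟩ := h.frame K hKs hKmax
  obtain ⟨H, hH, N, hN, ⟨f⟩⟩ := Cfsg.Agent.H414.SpecFrame.exists_factor S
  have hsim : IsSimpleGroup (↥H ⧸ N) := (f.isSimpleGroup_congr).2 hS.simple
  have hnc : ¬ IsMulCommutative (↥H ⧸ N) := by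
    intro hcm
    obtain ⟨a, b, hab⟩ := hS.noncomm
    apply hab
    apply f.symm.injective
    rw [map_mul, map_mul, isMulCommutative_iff.1 hcm]
  obtain ⟨g⟩ := hid H hH.isSubnormal N hsim hnc (hc.of_mulEquiv f.symm)
  exact recognize h.spec K hKs S hSc (f.symm.trans g) hcov haut

end Cfsg.Agent.H321.SpecEven
end

-- part: H321/SpecEven/Ident
section
/-!
# Identification of the composition factor (helper321)

`IsoW.ident`, `IsoW.main` : for `L = PSL_n(2^k)`, `PSU_n(2^k)`, `n = 2 ^ t + 1 ≥ 5` (not `PSU_5(2)`), a finite group `G` with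
`ω(G) = ω(L)` is isomorphic to `L`, given: characteristic 2 factors are `≃* L` (S3587), no factors of Lie type in odd
characteristic satisfy `CandW`, `Cov L`, `AutOk L`.
-/

set_option autoImplicit false
set_option linter.unusedSectionVars false

namespace Cfsg.Agent.H321.SpecEven

open Cfsg Subgroup Cfsg.Agent.H373.Recog

universe u v

/-- a sporadic group has the order of a sporadic group -/
theorem isSporadic_of {S : Type*} [Group S] (hs : IsSimpleGroup S) (h : IsSporadicGroup S) : IsSporadic S := by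
  have T := Cfsg.Agent.OrdDiv.table_spor S
  have key : ∀ x ∈ Cfsg.Agent.OrdDiv.spor, Cfsg.Agent.OrdDiv.Real x.1 S → Nat.card S = x.2 := T
  unfold IsSporadicGroup at h
  unfold IsSporadic
  rcases h with h | h | h | h | h | h | h | h | h | h | h | h | h | h | h | h | h | h | h | h | h | h | h | h | h | h
  · exact Or.inl ⟨hs, key (.m11, 7920) (by decide) h⟩
  · exact Or.inr (Or.inl ⟨hs, key (.m12, 95040) (by decide) h⟩)
  · exact Or.inr (Or.inr (Or.inl ⟨hs, key (.m22, 443520) (by decide) h⟩))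
  · have h1 : IsM23 S := ⟨hs, key (.m23, 10200960) (by decide) h⟩
    simp only [h1, true_or, or_true]
  · have h1 : IsM24 S := ⟨hs, key (.m24, 244823040) (by decide) h⟩
    (solve | repeat (first | with_reducible assumption | exact Or.inl (by with_reducible assumption) | refine Or.inr ?_) | tauto)
  · have h1 : IsJ1 S := ⟨hs, key (.j1, 175560) (by decide) h⟩
    (solve | repeat (first | with_reducible assumption | exact Or.inl (by with_reducible assumption) | refine Or.inr ?_) | tauto)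
  · have h1 : IsJ2 S := ⟨hs, key (.j2, 604800) (by decide) h⟩
    (solve | repeat (first | with_reducible assumption | exact Or.inl (by with_reducible assumption) | refine Or.inr ?_) | simp only [h1, true_or, or_true])
  · have h1 : IsJ3 S := ⟨hs, key (.j3, 50232960) (by decide) h⟩
    (solve | repeat (first | with_reducible assumption | exact Or.inl (by with_reducible assumption) | refine Or.inr ?_) | simp only [h1, true_or, or_true])
  · have h1 : IsJ4 S := ⟨hs, key (.j4, 86775571046077562880) (by decide) h⟩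
    (solve | repeat (first | with_reducible assumption | exact Or.inl (by with_reducible assumption) | refine Or.inr ?_) | simp only [h1, true_or, or_true])
  · have h1 : IsCo1 S := ⟨hs, key (.co1, 4157776806543360000) (by decide) h⟩
    (solve | repeat (first | with_reducible assumption | exact Or.inl (by with_reducible assumption) | refine Or.inr ?_) | simp only [h1, true_or, or_true])
  · have h1 : IsCo2 S := ⟨hs, key (.co2, 42305421312000) (by decide) h⟩
    (solve | repeat (first | with_reducible assumption | exact Or.inl (by with_reducible assumption) | refine Or.inr ?_) | simp only [h1, true_or, or_true])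
  · have h1 : IsCo3 S := ⟨hs, key (.co3, 495766656000) (by decide) h⟩
    (solve | repeat (first | with_reducible assumption | exact Or.inl (by with_reducible assumption) | refine Or.inr ?_) | simp only [h1, true_or, or_true])
  · have h1 : IsMcL S := ⟨hs, key (.mcl, 898128000) (by decide) h⟩
    (solve | repeat (first | with_reducible assumption | exact Or.inl (by with_reducible assumption) | refine Or.inr ?_) | simp only [h1, true_or, or_true])
  · have h1 : IsHS S := ⟨hs, key (.hs, 44352000) (by decide) h⟩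
    (solve | repeat (first | with_reducible assumption | exact Or.inl (by with_reducible assumption) | refine Or.inr ?_) | simp only [h1, true_or, or_true])
  · have h1 : IsSuz S := ⟨hs, key (.suz, 448345497600) (by decide) h⟩
    (solve | repeat (first | with_reducible assumption | exact Or.inl (by with_reducible assumption) | refine Or.inr ?_) | simp only [h1, true_or, or_true])
  · have h1 : IsHe S := ⟨hs, key (.he, 4030387200) (by decide) h⟩
    (solve | repeat (first | with_reducible assumption | exact Or.inl (by with_reducible assumption) | refine Or.inr ?_) | simp only [h1, true_or, or_true])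
  · have h1 : IsRu S := ⟨hs, key (.ru, 145926144000) (by decide) h⟩
    (solve | repeat (first | with_reducible assumption | exact Or.inl (by with_reducible assumption) | refine Or.inr ?_) | simp only [h1, true_or, or_true])
  · have h1 : IsON S := ⟨hs, key (.on, 460815505920) (by decide) h⟩
    (solve | repeat (first | with_reducible assumption | exact Or.inl (by with_reducible assumption) | refine Or.inr ?_) | simp only [h1, true_or, or_true])
  · have h1 : IsLy S := ⟨hs, key (.ly, 51765179004000000) (by decide) h⟩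
    (solve | repeat (first | with_reducible assumption | exact Or.inl (by with_reducible assumption) | refine Or.inr ?_) | simp only [h1, true_or, or_true])
  · have h1 : IsFi22 S := ⟨hs, key (.fi22, 64561751654400) (by decide) h⟩
    (solve | repeat (first | with_reducible assumption | exact Or.inl (by with_reducible assumption) | refine Or.inr ?_) | simp only [h1, true_or, or_true])
  · have h1 : IsFi23 S := ⟨hs, key (.fi23, 4089470473293004800) (by decide) h⟩
    (solve | repeat (first | with_reducible assumption | exact Or.inl (by with_reducible assumption) | refine Or.inr ?_) | simp only [h1, true_or, or_true])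
  · have h1 : IsFi24' S := ⟨hs, key (.fi24, 1255205709190661721292800) (by decide) h⟩
    (solve | repeat (first | with_reducible assumption | exact Or.inl (by with_reducible assumption) | refine Or.inr ?_) | simp only [h1, true_or, or_true])
  · have h1 : IsHN S := ⟨hs, key (.hn, 273030912000000) (by decide) h⟩
    (solve | repeat (first | with_reducible assumption | exact Or.inl (by with_reducible assumption) | refine Or.inr ?_) | simp only [h1, true_or, or_true])
  · have h1 : IsTh S := ⟨hs, key (.th, 90745943887872000) (by decide) h⟩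
    (solve | repeat (first | with_reducible assumption | exact Or.inl (by with_reducible assumption) | refine Or.inr ?_) | simp only [h1, true_or, or_true])
  · have h1 : IsB S := ⟨hs, key (.b, 4154781481226426191177580544000000) (by decide) h⟩
    (solve | repeat (first | with_reducible assumption | exact Or.inl (by with_reducible assumption) | refine Or.inr ?_) | simp only [h1, true_or, or_true])
  · have h1 : IsM S := ⟨hs, key (.m, 808017424794512875886459904961710757005754368000000000) (by decide) h⟩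
    (solve | repeat (first | with_reducible assumption | exact Or.inl (by with_reducible assumption) | refine Or.inr ?_) | simp only [h1, true_or, or_true])

variable {F : Type*} [Field F] [Fintype F] {e : Bool} {t k : ℕ} {L : Type v} [Group L] [Finite L]
  {G : Type u} [Group G] [Finite G]

/-- **The composition factor is `L`.** -/
theorem IsoW.ident (h : IsoW e t k F L G) (hex : ¬ (e = false ∧ t = 2 ∧ k = 1))
    (hchar : ∀ (H : Subgroup G), H.IsSubnormal → ∀ (N : Subgroup ↥H) [N.Normal], IsSimpleGroup (↥H ⧸ N) →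
      ¬ IsMulCommutative (↥H ⧸ N) → IsLieTypeChar 2 (↥H ⧸ N) → Nonempty ((↥H ⧸ N) ≃* L))
    (hodd : ∀ (S : Type u) [Group S] [Finite S] [IsSimpleGroup S], CandW e t k S → ∀ p : ℕ, p.Prime → p ≠ 2 →
      IsLieTypeChar p S → False) :
    ∀ (H : Subgroup G), H.IsSubnormal → ∀ (N : Subgroup ↥H) [N.Normal], IsSimpleGroup (↥H ⧸ N) →
      ¬ IsMulCommutative (↥H ⧸ N) → CandW e t k (↥H ⧸ N) → Nonempty ((↥H ⧸ N) ≃* L) := by
  intro H hH N _ hsim hnc hc
  have h2t : 2 ^ 2 ≤ 2 ^ t := Nat.pow_le_pow_right (by norm_num) h.ht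
  have h2k : 2 ^ 1 ≤ 2 ^ k := Nat.pow_le_pow_right (by norm_num) h.hk
  have hL := h.hL
  have hF := h.hF
  rcases Cfsg.Agent.H912.Known.known_split (Cfsg.Agent.S0000.result (G := ↥H ⧸ N))
    (Cfsg.Agent.H912.Known.not_primeCyclic hnc) with hA | ⟨r, hr, hr2⟩ | hT | hSp
  · exfalso
    obtain ⟨n, -, hn⟩ := hA
    refine Cfsg.Agent.S3585.result (n := 2 ^ t + 1) (F := F) (L := L) (by omega) ?_ h.spec H hH N hsim hnc n hn
    cases e with
    | true => exact Or.inl ⟨fun h => by omega, hL⟩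
    | false => exact Or.inr ⟨2 ^ k, fun h => by omega, by simpa using hF, hL⟩
  · by_cases h2 : r = 2
    · subst h2
      exact hchar H hH N hsim hnc hr2
    · exact (hodd _ hc r hr h2 hr2).elim
  all_goals
    exfalso
    have h3 := Cfsg.Agent.S3586.result (n := 2 ^ t + 1) (F := F) (L := L) (by omega) (by
      cases e with
      | true => exact Or.inl hL
      | false =>
        refine Or.inr ⟨2 ^ k, fun h4 => hex ⟨rfl, ?_, ?_⟩, by simpa using hF, hL⟩
        · exact Nat.pow_right_injective le_rfl (show 2 ^ t = 2 ^ 2 by omega)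
        · exact Nat.pow_right_injective le_rfl (show 2 ^ k = 2 ^ 1 by omega)) h.spec H hH N hsim hnc
  · exact h3.2 hT
  · exact h3.1 (isSporadic_of hsim hSp)

/-- **The assembly.** -/
theorem IsoW.main (h : IsoW e t k F L G) (hex : ¬ (e = false ∧ t = 2 ∧ k = 1))
    (hchar : ∀ (H : Subgroup G), H.IsSubnormal → ∀ (N : Subgroup ↥H) [N.Normal], IsSimpleGroup (↥H ⧸ N) →
      ¬ IsMulCommutative (↥H ⧸ N) → IsLieTypeChar 2 (↥H ⧸ N) → Nonempty ((↥H ⧸ N) ≃* L))
    (hodd : ∀ (S : Type u) [Group S] [Finite S] [IsSimpleGroup S], CandW e t k S → ∀ p : ℕ, p.Prime → p ≠ 2 →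
      IsLieTypeChar p S → False)
    (hcov : Cov.{v, u} L) (haut : AutOk L) : Nonempty (G ≃* L) :=
  h.finish (h.ident hex hchar hodd) hcov haut

/-- the input of S3587 -/
theorem IsoW.char_two (h : IsoW e t k F L G)
    (h87 : (Nonempty (L ≃* Matrix.ProjectiveSpecialLinearGroup (Fin (2 ^ t + 1)) F) ∨
      (∃ q : ℕ, ¬ (2 ^ t + 1 = 4 ∧ q = 2) ∧ Fintype.card F = q ^ 2 ∧ Nonempty (L ≃* Cfsg.PSU (2 ^ t + 1) F q))) →
      ∀ [CharP F 2], ∀ (H : Subgroup G), H.IsSubnormal → ∀ (N : Subgroup ↥H) [N.Normal], IsSimpleGroup (↥H ⧸ N) →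
      ¬ IsMulCommutative (↥H ⧸ N) → IsLieTypeChar 2 (↥H ⧸ N) → Nonempty ((↥H ⧸ N) ≃* L)) :
    ∀ (H : Subgroup G), H.IsSubnormal → ∀ (N : Subgroup ↥H) [N.Normal], IsSimpleGroup (↥H ⧸ N) →
      ¬ IsMulCommutative (↥H ⧸ N) → IsLieTypeChar 2 (↥H ⧸ N) → Nonempty ((↥H ⧸ N) ≃* L) := by
  have h2t : 2 ^ 2 ≤ 2 ^ t := Nat.pow_le_pow_right (by norm_num) h.ht
  have hL := h.hL
  have hF := h.hF
  have := Fact.mk Nat.prime_two
  have hch : CharP F 2 := charP_of_card_eq_prime_pow (p := 2) (f := k * (cond e 0 1 + 1)) (by rw [hF, ← pow_mul])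
  refine h87 ?_
  cases e with
  | true => exact Or.inl hL
  | false => exact Or.inr ⟨2 ^ k, fun h => by omega, by simpa using hF, hL⟩

end Cfsg.Agent.H321.SpecEven
end
end
end
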